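import Groth.Agent.DMInfLib.Main

/-!
# Automorphisms of functors out of a slice
-/

set_option autoImplicit false
set_option linter.style.haveILetI false
set_option backward.isDefEq.respectTransparency false
set_option backward.isDefEq.respectTransparency.types false

universe u

open CategoryTheory CategoryTheory.Limits AlgebraicGeometry AlgSp FibCat FibLib AlgStLib IsoNatLib IsoNatSepLib Opposite
open CategoryTheory.Functor (Fiber IsPreFibered IsStronglyCartesian)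

noncomputable section

namespace DMInfLib

variable {S : Scheme.{u}} {𝒳 𝒴 : AlgSt.Cat S} [IsFibGrpd 𝒳.p] [IsFibGrpd 𝒴.p] (f : 𝒳 ⥤ᵇ 𝒴)

/-- The criterion for automorphisms of functors out of a slice. -/
def TrivAuto' : Prop :=
  ∀ (A A₀ : Type u) [CommRing A] [IsArtinianRing A] [IsLocalRing A] [CommRing A₀] [IsLocalRing A₀]
    (φ : A →+* A₀) (_ : Function.Surjective φ) (_ : IsSimpleModule A (RingHom.ker φ))
    (sA : Spec (CommRingCat.of A) ⟶ S)
    (xt : FibCat.overCat (Over.mk sA) ⥤ᵇ 𝒳) (Θ : xt ≅ xt),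
    BasedCategory.whiskerLeft (AlgSt.overMap (incl φ sA)) Θ.hom =
      𝟙 (BasedFunctor.comp (AlgSt.overMap (incl φ sA)) xt) →
    BasedCategory.whiskerRight Θ.hom f = 𝟙 (BasedFunctor.comp xt f) →
    Θ.hom = 𝟙 xt

variable {f}

theorem trivAuto'_of_trivAuto (h : TrivAuto f) : TrivAuto' f := by
  intro A A₀ _ _ _ _ _ φ hφ hs sA xt Θ hl hr
  refine natTrans_ext (preservesStronglyCartesian_of_isFibGrpd _) ?_
  let o : Over (Over.mk sA) := (AlgSt.overMap (incl φ sA)).obj (Over.mk (𝟙 _))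
  have hu : 𝒳.p.IsHomLift (incl φ sA) (xt.map (toId o)) := lift_congr (Category.id_comp _) (lift_map xt (toId o))
  have hn : xt.map (toId o) ≫ Θ.hom.toNatTrans.app (Over.mk (𝟙 (Over.mk sA))) = xt.map (toId o) := by
    refine (Θ.hom.toNatTrans.naturality (toId o)).trans ?_
    rw [show Θ.hom.toNatTrans.app o = 𝟙 _ from
      congrArg (fun α => α.toNatTrans.app (Over.mk (𝟙 _))) hl]
    exact Category.id_comp _
  exact h A A₀ φ hφ hs sA (Fiber.mk (p := 𝒳.p) (a := xt.obj (Over.mk (𝟙 _))) (xt.w_obj _))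
    (Fiber.mk (p := 𝒳.p) (a := xt.obj o) (xt.w_obj _)) _ hu _
    (BasedNatTrans.isHomLift Θ.hom rfl) hn (congrArg (fun α => α.toNatTrans.app (Over.mk (𝟙 _))) hr)

theorem trivAuto_of_trivAuto' (h : TrivAuto' f) : TrivAuto f := by
  intro A A₀ _ _ _ _ _ φ hφ hs sA x x₀ u hu t ht hut hft
  obtain ⟨κ'⟩ := nonempty_evalAtId_ofPoint_iso x
  let κ : (ofPoint x).obj (Over.mk (𝟙 (Over.mk sA))) ≅ x.1 :=
    ⟨κ'.hom.1, κ'.inv.1, congrArg Subtype.val κ'.hom_inv_id, congrArg Subtype.val κ'.inv_hom_id⟩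
  have hκ : 𝒳.p.IsHomLift (𝟙 (Over.mk sA)) κ.hom := κ'.hom.2
  haveI := ht
  haveI : IsIso t := isIso_of_isHomLift (p := 𝒳.p) (𝟙 (Over.mk sA)) t
  let i : (ofPoint x).obj (Over.mk (𝟙 (Over.mk sA))) ≅ (ofPoint x).obj (Over.mk (𝟙 (Over.mk sA))) :=
    κ ≪≫ asIso t ≪≫ κ.symm
  have hi : 𝒳.p.IsHomLift (𝟙 (Over.mk sA)) i.hom :=
    lift_congr ((Category.id_comp _).trans (Category.id_comp _)) (comp_lift hκ (comp_lift ht κ'.inv.2))
  haveI := evalAtId_isEquivalence (𝒳 := 𝒳) (U := Over.mk sA)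
  let Θ : ofPoint x ≅ ofPoint x := (evalAtId 𝒳 (Over.mk sA)).preimageIso
    (fiberIso 𝒳.p (a := (evalAtId 𝒳 _).obj (ofPoint x)) (b := (evalAtId 𝒳 _).obj (ofPoint x)) i hi)
  have hΘ : Θ.hom.toNatTrans.app (Over.mk (𝟙 (Over.mk sA))) = i.hom :=
    congrArg Subtype.val ((evalAtId 𝒳 (Over.mk sA)).map_preimage _)
  have hr : BasedCategory.whiskerRight Θ.hom f = 𝟙 (BasedFunctor.comp (ofPoint x) f) := by
    refine natTrans_ext (preservesStronglyCartesian_of_isFibGrpd _) ?_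
    change f.map (Θ.hom.toNatTrans.app (Over.mk (𝟙 (Over.mk sA)))) = 𝟙 _
    rw [hΘ]
    simp only [i, Iso.trans_hom, Iso.symm_hom, asIso_hom, f.toFunctor.map_comp, hft]
    rw [← Category.assoc]
    erw [Category.comp_id]
    rw [← f.toFunctor.map_comp, κ.hom_inv_id]
    exact f.toFunctor.map_id _
  have hl : BasedCategory.whiskerLeft (AlgSt.overMap (incl φ sA)) Θ.hom =
      𝟙 (BasedFunctor.comp (AlgSt.overMap (incl φ sA)) (ofPoint x)) := by
    refine natTrans_ext (preservesStronglyCartesian_of_isFibGrpd _) ?_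
    let o : Over (Over.mk sA) := (AlgSt.overMap (incl φ sA)).obj (Over.mk (𝟙 _))
    change Θ.hom.toNatTrans.app o = 𝟙 ((ofPoint x).obj o)
    let m : (ofPoint x).obj o ⟶ (ofPoint x).obj (Over.mk (𝟙 (Over.mk sA))) := (ofPoint x).map (toId o)
    have hm : 𝒳.p.IsHomLift (incl φ sA) m := lift_congr (Category.id_comp _) (lift_map (ofPoint x) (toId o))
    obtain ⟨θ, -, hθ⟩ := exists_fac (g := 𝟙 _) u hu (m ≫ κ.hom)
      (lift_congr ((Category.comp_id _).trans (Category.id_comp _).symm) (comp_lift hm hκ))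
    have hmi : m ≫ i.hom = m := by
      simp only [i, Iso.trans_hom, Iso.symm_hom, asIso_hom]
      rw [← Category.assoc, ← hθ, Category.assoc, reassoc_of% hut, ← Category.assoc, hθ, Category.assoc,
        κ.hom_inv_id, Category.comp_id]
    refine eq_of_fac hm (BasedNatTrans.isHomLift Θ.hom rfl) (IsHomLift.id ((ofPoint x).w_obj o)) ?_
    rw [← hΘ] at hmi
    exact (Θ.hom.toNatTrans.naturality (toId o)).symm.trans (hmi.trans (Category.id_comp _).symm)
  have h0 := h A A₀ φ hφ hs sA (ofPoint x) Θ hl hr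
  have h1 : i.hom = 𝟙 _ := hΘ.symm.trans (congrArg (fun α => α.toNatTrans.app (Over.mk (𝟙 _))) h0)
  have h2 : κ.inv ≫ i.hom ≫ κ.hom = κ.inv ≫ 𝟙 _ ≫ κ.hom := by rw [h1]
  simpa [i] using h2

end DMInfLib
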