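import Groth.Agent.DMInfLib.Ring
import Groth.Agent.IsoNatLib.Elt
import Groth.Agent.IsoNatSepLib.Glue
import Groth.Agent.IsoNatSepLib.Transfer
import Groth.Agent.AlgStLib.Rows3
import Groth.Agent.AlgSpLib.FormalCharts
import Groth.Agent.S10616

/-!
# Morphisms of stacks with unramified diagonal and infinitesimal automorphisms
-/

set_option autoImplicit false
set_option linter.style.haveILetI false
set_option backward.isDefEq.respectTransparency false
set_option backward.isDefEq.respectTransparency.types false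

universe u

open CategoryTheory CategoryTheory.Limits AlgebraicGeometry AlgSp FibCat FibLib AlgStLib IsoNatLib IsoNatSepLib Opposite
open CategoryTheory.Functor (Fiber IsPreFibered IsStronglyCartesian)

noncomputable section

namespace DMInfLib

variable {S : Scheme.{u}} {𝒳 𝒴 : AlgSt.Cat S}

/-- The closed point of a small extension, over the base. -/
abbrev incl {A A₀ : Type u} [CommRing A] [CommRing A₀] (φ : A →+* A₀) (sA : Spec (CommRingCat.of A) ⟶ S) :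
    Over.mk (Spec.map (CommRingCat.ofHom φ) ≫ sA) ⟶ Over.mk sA :=
  Over.homMk (Spec.map (CommRingCat.ofHom φ)) rfl

/-- Automorphisms of objects over Artinian schemes killed by `f` and trivial modulo a small ideal are trivial. -/
def TrivAuto (f : 𝒳 ⥤ᵇ 𝒴) : Prop :=
  ∀ (A A₀ : Type u) [CommRing A] [IsArtinianRing A] [IsLocalRing A] [CommRing A₀] [IsLocalRing A₀]
    (φ : A →+* A₀), Function.Surjective φ → IsSimpleModule A (RingHom.ker φ) →
    ∀ (sA : Spec (CommRingCat.of A) ⟶ S) (x : 𝒳.p.Fiber (Over.mk sA))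
      (x₀ : 𝒳.p.Fiber (Over.mk (Spec.map (CommRingCat.ofHom φ) ≫ sA))) (u : x₀.1 ⟶ x.1),
      𝒳.p.IsHomLift (incl φ sA) u → ∀ t : x.1 ⟶ x.1, 𝒳.p.IsHomLift (𝟙 (Over.mk sA)) t → u ≫ t = u →
        f.map t = 𝟙 _ → t = 𝟙 x.1

theorem sq_ker_eq_bot {A A₀ : Type u} [CommRing A] [IsArtinianRing A] [IsLocalRing A] [CommRing A₀]
    [IsLocalRing A₀] (φ : A →+* A₀) (hs : IsSimpleModule A (RingHom.ker φ)) : RingHom.ker φ ^ 2 = ⊥ := by
  have ha := isSimpleModule_iff_isAtom.1 hs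
  rcases ha.le_iff.1 (Ideal.pow_le_self two_ne_zero : RingHom.ker φ ^ 2 ≤ _) with h | h
  · exact h
  · have hn : ∀ n, RingHom.ker φ ≤ RingHom.ker φ ^ (n + 1) := by
      intro n
      induction n with
      | zero => simp
      | succ n ih =>
        calc RingHom.ker φ = RingHom.ker φ * RingHom.ker φ := by rw [← pow_two, h]
          _ ≤ RingHom.ker φ ^ (n + 1) * RingHom.ker φ := Ideal.mul_mono_left ih
          _ = RingHom.ker φ ^ (n + 1 + 1) := (pow_succ _ _).symm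
    obtain ⟨n, hn'⟩ : IsNilpotent (IsLocalRing.maximalIdeal A) := by
      rw [← IsLocalRing.jacobson_eq_maximalIdeal ⊥ bot_ne_top]
      exact IsArtinianRing.isNilpotent_jacobson_bot
    have : RingHom.ker φ ≤ ⊥ := (hn n).trans <| (Ideal.pow_le_pow_right n.le_succ).trans <|
      (Ideal.pow_right_mono (IsLocalRing.le_maximalIdeal (RingHom.ker_ne_top φ)) n).trans hn'.le
    exact absurd (le_bot_iff.1 this) ha.1

/-- Formally unramified morphisms separate lifts along small extensions. -/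
theorem eq_of_small {H G : Sp S} {a : H ⟶ G} (ha : IsFormallyUnramifiedMor a) {A A₀ : Type u} [CommRing A]
    [IsArtinianRing A] [IsLocalRing A] [CommRing A₀] [IsLocalRing A₀] (φ : A →+* A₀)
    (hφ : Function.Surjective φ) (hs : IsSimpleModule A (RingHom.ker φ)) (sA : Spec (CommRingCat.of A) ⟶ S)
    {σ σ' : (yon S).obj (Over.mk sA) ⟶ H} (e : σ ≫ a = σ' ≫ a)
    (h : (yon S).map (incl φ sA) ≫ σ = (yon S).map (incl φ sA) ≫ σ') : σ = σ' := by
  let j : Over.mk (Spec.map (CommRingCat.ofHom (Ideal.Quotient.mk (RingHom.ker φ))) ≫ sA) ⟶ Over.mk sA :=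
    Over.homMk (Spec.map (CommRingCat.ofHom (Ideal.Quotient.mk (RingHom.ker φ)))) rfl
  let ψ : A₀ →+* A ⧸ RingHom.ker φ := (RingHom.quotientKerEquivOfSurjective hφ).symm.toRingHom
  have hψ : ψ.comp φ = Ideal.Quotient.mk (RingHom.ker φ) := RingHom.ext fun x =>
    (RingHom.quotientKerEquivOfSurjective hφ).symm_apply_eq.2 rfl
  have hl : Spec.map (CommRingCat.ofHom ψ) ≫ Spec.map (CommRingCat.ofHom φ) =
      Spec.map (CommRingCat.ofHom (Ideal.Quotient.mk (RingHom.ker φ))) := by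
    rw [← Spec.map_comp, ← CommRingCat.ofHom_comp, hψ]
  let c : Over.mk (Spec.map (CommRingCat.ofHom (Ideal.Quotient.mk (RingHom.ker φ))) ≫ sA) ⟶
      Over.mk (Spec.map (CommRingCat.ofHom φ) ≫ sA) :=
    Over.homMk (Spec.map (CommRingCat.ofHom ψ)) (by
      show Spec.map _ ≫ Spec.map _ ≫ sA = _
      rw [← Category.assoc, hl]; rfl)
  have hj : c ≫ incl φ sA = j := Over.OverMorphism.ext hl
  let sq : InfSq a :=
    { A := A, I := RingHom.ker φ, sq_zero := sq_ker_eq_bot φ hs, str := sA, top := (yon S).map j ≫ σ, bot := σ ≫ a,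
      comm := Category.assoc _ _ _ }
  refine ha sq σ σ' rfl rfl ?_ e.symm
  change (yon S).map j ≫ σ' = (yon S).map j ≫ σ
  rw [← hj, Functor.map_comp, Category.assoc, Category.assoc, h]

variable [IsFibGrpd 𝒳.p] [IsFibGrpd 𝒴.p] {f : 𝒳 ⥤ᵇ 𝒴}

/-- Unramified diagonal gives trivial infinitesimal automorphisms. -/
theorem trivAuto_of_isDMMor (hd : AlgSt.IsDMMor f) : TrivAuto f := by
  intro A A₀ _ _ _ _ _ φ hφ hs sA x x₀ u hu t ht hut hft
  haveI : IsFibGrpd (fp f f).p := isFibGrpd_fp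
  obtain ⟨H, aH, hH, hun, -, ⟨C⟩⟩ := exists_classifier hd
    (Fiber.mk (p := (fp f f).p) (a := (diag f).obj x.1) (((diag f).w_obj x.1).trans x.2))
  have hfu : IsFormallyUnramifiedMor aH := (AlgSpLib.isFormallyUnramifiedMor_iff_locP hH (IsAlgSpace.yon_obj _) _).2
    (AlgSpLib.locP_mono (fun _ _ _ h => h.2) hun)
  let mk : ∀ (s : x.1 ⟶ x.1) (hs : 𝒳.p.IsHomLift (𝟙 (Over.mk sA)) s), f.map s = 𝟙 _ →
      Elt (diag f) (Fiber.mk (p := (fp f f).p) (a := (diag f).obj x.1) (((diag f).w_obj x.1).trans x.2))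
        (Over.mk sA) := fun s hs e =>
    { base := 𝟙 _
      obj := x
      map := fpHom (x := (diag f).obj x.1) (y := (diag f).obj x.1) s (𝟙 x.1) (by
        change f.map s ≫ 𝟙 _ = 𝟙 _ ≫ f.map (𝟙 x.1)
        rw [e]
        exact congrArg (𝟙 (f.obj x.1) ≫ ·) (f.toFunctor.map_id x.1).symm)
      lift := by
        haveI : 𝒳.p.IsHomLift (𝟙 (Over.mk sA)) (fpHom (x := (diag f).obj x.1) (y := (diag f).obj x.1) s (𝟙 x.1) (by
          change f.map s ≫ 𝟙 _ = 𝟙 _ ≫ f.map (𝟙 x.1)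
          rw [e]
          exact congrArg (𝟙 (f.obj x.1) ≫ ·) (f.toFunctor.map_id x.1).symm)).hom.fst := hs
        exact isHomLift_of_fst _ _ }
  have hid : 𝒳.p.IsHomLift (𝟙 (Over.mk sA)) (𝟙 x.1) := IsHomLift.id x.2
  have hfid : f.map (𝟙 x.1) = 𝟙 _ := f.toFunctor.map_id _
  have he : ∀ (s : x.1 ⟶ x.1) (hs : 𝒳.p.IsHomLift (𝟙 (Over.mk sA)) s) (e : f.map s = 𝟙 _), u ≫ s = u →
      EHom (incl φ sA) ⟨incl φ sA, x₀, (diag f).map u, fun_lift (diag f) hu⟩ (mk s hs e) :=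
    fun s hs e hus => ⟨u, hu, fp_hom_ext hus (Category.comp_id u)⟩
  obtain ⟨k, -, hk⟩ := C.ehom_of_eq (eq_of_small hfu φ hφ hs sA
    ((C.cls_comp (mk t ht hft)).trans (C.cls_comp (mk _ hid hfid)).symm)
    ((C.cls_map (he t ht hft hut)).symm.trans (C.cls_map (he _ hid hfid (Category.comp_id u)))))
  have h₁ : k ≫ 𝟙 x.1 = t := congrArg (fun m => m.hom.fst) hk
  have h₂ : k ≫ 𝟙 x.1 = 𝟙 x.1 := congrArg (fun m => m.hom.snd) hk
  exact h₁.symm.trans h₂

/-- Two elements of the diagonal which agree modulo a small ideal agree. -/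
theorem cls_eq_of_trivAuto (ht : TrivAuto f) {T : Over S} {z : (fp f f).p.Fiber T} {H : Sp S}
    {aH : H ⟶ (yon S).obj T} (C : Classifier (diag f) z aH) {A A₀ : Type u} [CommRing A] [IsArtinianRing A]
    [IsLocalRing A] [CommRing A₀] [IsLocalRing A₀] (φ : A →+* A₀) (hφ : Function.Surjective φ)
    (hs : IsSimpleModule A (RingHom.ker φ)) (sA : Spec (CommRingCat.of A) ⟶ S)
    (E E' : Elt (diag f) z (Over.mk sA)) (hb : E.base = E'.base)
    (h : (yon S).map (incl φ sA) ≫ C.cls E = (yon S).map (incl φ sA) ≫ C.cls E') : C.cls E = C.cls E' := by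
  haveI : IsFibGrpd (fp f f).p := isFibGrpd_fp
  obtain ⟨E₀, hE₀'⟩ := exists_pullback_elt (incl φ sA) E'
  obtain ⟨k, hk, hkm⟩ := C.ehom_of_comp (E := E) (E' := E₀) (c := incl φ sA) ((C.cls_map hE₀').trans h.symm)
  obtain ⟨k', hk', hkm'⟩ := hE₀'
  have hk₁ : k ≫ E.map.hom.fst = k' ≫ E'.map.hom.fst := congrArg (fun m => m.hom.fst) (hkm.trans hkm'.symm)
  have hk₂ : k ≫ E.map.hom.snd = k' ≫ E'.map.hom.snd := congrArg (fun m => m.hom.snd) (hkm.trans hkm'.symm)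
  have l₁ : 𝒳.p.IsHomLift E.base E.map.hom.fst := @isHomLift_fst _ _ _ _ _ _ _ _ _ _ _ _ _ E.lift
  have l₂ : 𝒳.p.IsHomLift E.base E.map.hom.snd := @isHomLift_snd _ _ _ _ _ _ _ _ _ _ _ _ _ E.lift
  have l₁' : 𝒳.p.IsHomLift E'.base E'.map.hom.fst := @isHomLift_fst _ _ _ _ _ _ _ _ _ _ _ _ _ E'.lift
  have l₂' : 𝒳.p.IsHomLift E'.base E'.map.hom.snd := @isHomLift_snd _ _ _ _ _ _ _ _ _ _ _ _ _ E'.lift
  obtain ⟨θ₁, hθ₁, e₁⟩ := exists_fac (g := 𝟙 _) E.map.hom.fst l₁ E'.map.hom.fst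
    (lift_congr ((Category.id_comp _).trans hb).symm l₁')
  obtain ⟨θ₂, hθ₂, e₂⟩ := exists_fac (g := 𝟙 _) E.map.hom.snd l₂ E'.map.hom.snd
    (lift_congr ((Category.id_comp _).trans hb).symm l₂')
  have a₁ : k = k' ≫ θ₁ := eq_of_fac l₁ hk (lift_congr (Category.comp_id _) (comp_lift hk' hθ₁))
    (by rw [hk₁, Category.assoc, e₁])
  have a₂ : k = k' ≫ θ₂ := eq_of_fac l₂ hk (lift_congr (Category.comp_id _) (comp_lift hk' hθ₂))
    (by rw [hk₂, Category.assoc, e₂])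
  have w : f.map E.map.hom.fst ≫ z.1.obj.iso.hom = f.map E.map.hom.snd :=
    E.map.hom.w.trans (Category.id_comp _)
  have w' : f.map E'.map.hom.fst ≫ z.1.obj.iso.hom = f.map E'.map.hom.snd :=
    E'.map.hom.w.trans (Category.id_comp _)
  have hfθ : f.map θ₁ = f.map θ₂ := by
    refine eq_of_fac (fun_lift f l₂) (fun_lift f hθ₁) (fun_lift f hθ₂) ?_
    calc f.map θ₁ ≫ f.map E.map.hom.snd = f.map θ₁ ≫ f.map E.map.hom.fst ≫ z.1.obj.iso.hom := by rw [w]
      _ = f.map E'.map.hom.fst ≫ z.1.obj.iso.hom := by rw [← e₁, f.toFunctor.map_comp, Category.assoc]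
      _ = f.map E'.map.hom.snd := w'
      _ = f.map θ₂ ≫ f.map E.map.hom.snd := by rw [← e₂, f.toFunctor.map_comp]
  haveI := hθ₁
  haveI := hθ₂
  haveI : IsIso θ₁ := isIso_of_isHomLift (p := 𝒳.p) (𝟙 (Over.mk sA)) θ₁
  have hinv : 𝒳.p.IsHomLift (𝟙 (Over.mk sA)) (inv θ₁) :=
    @IsHomLift.lift_id_inv _ _ _ _ 𝒳.p _ _ _ (asIso θ₁) hθ₁
  have hft : f.map (inv θ₁ ≫ θ₂) = 𝟙 (f.obj E.obj.1) := by
    rw [f.toFunctor.map_comp, ← hfθ, ← f.toFunctor.map_comp, IsIso.inv_hom_id]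
    exact f.toFunctor.map_id _
  have htriv := ht A A₀ φ hφ hs sA E.obj E₀.obj k hk (inv θ₁ ≫ θ₂)
    (lift_congr (Category.id_comp _) (comp_lift hinv hθ₂))
    (by rw [a₁, Category.assoc, IsIso.hom_inv_id_assoc, ← a₂, a₁]) hft
  have hθ : θ₁ = θ₂ := by
    rw [← cancel_epi (inv θ₁), IsIso.inv_hom_id, htriv]
    rfl
  have := C.cls_map (E' := E') (E := E) (c := 𝟙 _) ⟨θ₁, hθ₁, fp_hom_ext e₁ (hθ ▸ e₂)⟩
  rw [this, CategoryTheory.Functor.map_id, Category.id_comp]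

/-- Trivial infinitesimal automorphisms give an unramified diagonal. -/
theorem isDMMor_of_trivAuto (hl : AlgSt.RepByAlgSpWith (LocP @LocallyOfFiniteType) (diag f)) (ht : TrivAuto f) :
    AlgSt.IsDMMor f := by
  haveI : IsFibGrpd (fp f f).p := isFibGrpd_fp
  refine (repByAlgSpWith_iff _ _).mpr fun T u => ?_
  obtain ⟨H, aH, hH, hlft, hal, ⟨C⟩⟩ :=
    exists_classifier hl (Fiber.mk (p := (fp f f).p) (a := u.obj ⟨T, ⟨𝟙 T⟩⟩) (u.w_obj _))
  obtain ⟨k⟩ := nonempty_uf_iso u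
  refine ⟨H, aH, hH, hal.congr k (Iso.refl _), fun U V a b h ha hb e => ⟨hlft a b h ha hb e, ?_⟩⟩
  haveI : LocallyOfFiniteType h.left := hlft a b h ha hb e
  refine formallyUnramified_of_small_hom h.left fun R R₀ _ _ _ _ _ φ hφ hs g g' hgg hgh => ?_
  have hsA : g' ≫ U.hom = g ≫ U.hom := by
    rw [← Over.w h, ← Category.assoc, ← hgh, Category.assoc]
  let gO : Over.mk (g ≫ U.hom) ⟶ U := Over.homMk g rfl
  let gO' : Over.mk (g ≫ U.hom) ⟶ U := Over.homMk g' hsA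
  have hj : incl φ (g ≫ U.hom) ≫ gO = incl φ (g ≫ U.hom) ≫ gO' := Over.OverMorphism.ext hgg
  have hbb : gO ≫ h = gO' ≫ h := Over.OverMorphism.ext hgh
  obtain ⟨E, hE⟩ := C.exists_elt ((yon S).map gO ≫ a)
  obtain ⟨E', hE'⟩ := C.exists_elt ((yon S).map gO' ≫ a)
  have hc : ((yon S).map gO ≫ a) ≫ aH = ((yon S).map gO' ≫ a) ≫ aH := by
    rw [Category.assoc, Category.assoc, e, ← Functor.map_comp_assoc, hbb, Functor.map_comp_assoc]
  have hbase : E.base = E'.base := (yon S).map_injective (by rw [← C.cls_comp E, ← C.cls_comp E', hE, hE', hc])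
  have h0 : (yon S).map (incl φ (g ≫ U.hom)) ≫ C.cls E = (yon S).map (incl φ (g ≫ U.hom)) ≫ C.cls E' := by
    rw [hE, hE', ← Functor.map_comp_assoc, hj, Functor.map_comp_assoc]
  have key := cls_eq_of_trivAuto ht C φ hφ hs _ E E' hbase h0
  rw [hE, hE'] at key
  have hgg' := eq_of_small (AlgSpLib.isFormallyUnramifiedMor_of_repWith_etale ha) φ hφ hs _ key
    (by rw [← Functor.map_comp, hj, Functor.map_comp])
  exact congrArg (fun m => m.left) ((yon S).map_injective hgg')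

end DMInfLib
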