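import Mathlib.AlgebraicGeometry.Morphisms.FormallyUnramified
import Mathlib.AlgebraicGeometry.Morphisms.FiniteType
import Mathlib.RingTheory.DualNumber
import Mathlib.RingTheory.Nakayama

/-!
# Unramified morphisms and small extensions
-/

set_option autoImplicit false
set_option linter.style.haveILetI false
set_option backward.isDefEq.respectTransparency false

universe u

open CategoryTheory AlgebraicGeometry DualNumber TrivSqZeroExt

noncomputable section

namespace DMInfLib

variable (K : Type u) [Field K]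

instance : IsArtinianRing K[ε] :=
  haveI : Module.Finite K K[ε] := inferInstanceAs (Module.Finite K (K × K))
  IsArtinianRing.of_finite K K[ε]

theorem isSimpleModule_ker_fst : IsSimpleModule K[ε] (RingHom.ker (fstHom K K K).toRingHom) := by
  rw [isSimpleModule_iff_isAtom]
  have hε : (ε : K[ε]) ∈ RingHom.ker (fstHom K K K).toRingHom := fst_eps
  refine ⟨fun h => ?_, fun I hI => ?_⟩
  · rw [h, Ideal.mem_bot] at hε
    simpa using congrArg TrivSqZeroExt.snd hε
  · rcases DualNumber.ideal_trichotomy I with h | h | h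
    · exact h
    · refine absurd ?_ hI.not_ge
      rw [h]
      intro x hx
      exact Ideal.mem_span_singleton.2 (DualNumber.fst_eq_zero_iff_eps_dvd.1 hx)
    · exact absurd (h ▸ le_top) hI.not_ge

/-- A finite type algebra with unique lifts along small extensions is formally unramified. -/
theorem formallyUnramified_of_small {A B : Type u} [CommRing A] [CommRing B] [Algebra A B] [Algebra.FiniteType A B]
    (h : ∀ (R R₀ : Type u) [CommRing R] [IsArtinianRing R] [IsLocalRing R] [CommRing R₀] [IsLocalRing R₀]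
      [Algebra A R] (φ : R →+* R₀), Function.Surjective φ → IsSimpleModule R (RingHom.ker φ) →
      ∀ g g' : B →ₐ[A] R, φ.comp g.toRingHom = φ.comp g'.toRingHom → g = g') :
    Algebra.FormallyUnramified A B := by
  refine ⟨?_⟩
  by_contra hne
  rw [not_subsingleton_iff_nontrivial] at hne
  -- a maximal ideal in the support
  obtain ⟨q, hq, hqne⟩ : ∃ q : Ideal B, q.IsMaximal ∧ q • (⊤ : Submodule B Ω[B⁄A]) ≠ ⊤ := by
    by_contra! hall
    have hfg : (⊤ : Submodule B Ω[B⁄A]).FG := Module.finite_def.1 inferInstance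
    refine not_subsingleton Ω[B⁄A] ⟨fun x y => ?_⟩
    suffices ∀ x : Ω[B⁄A], x = 0 by rw [this x, this y]
    intro x
    by_contra hx
    obtain ⟨q, hq, hle⟩ := Ideal.exists_le_maximal ((⊤ : Submodule B Ω[B⁄A]).annihilator)
      fun htop => hx (by simpa using Submodule.mem_annihilator.1 (htop ▸ Submodule.mem_top : (1 : B) ∈ _) x Submodule.mem_top)
    obtain ⟨r, hr, hr'⟩ := Submodule.exists_sub_one_mem_and_smul_eq_zero_of_fg_of_le_smul q ⊤ hfg (hall q hq).ge
    have hra : r ∈ (⊤ : Submodule B Ω[B⁄A]).annihilator := Submodule.mem_annihilator.2 hr'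
    exact hq.ne_top ((Ideal.eq_top_iff_one q).2 (by simpa using q.sub_mem (hle hra) hr))
  letI := Ideal.Quotient.field q
  let N := Ω[B⁄A] ⧸ q • (⊤ : Submodule B Ω[B⁄A])
  haveI : Nontrivial N := Submodule.Quotient.nontrivial_iff.2 hqne
  obtain ⟨n, hn⟩ := exists_ne (0 : N)
  obtain ⟨v, hv⟩ : ∃ v : Module.Dual (B ⧸ q) N, v n ≠ 0 := by
    by_contra! hc
    exact hn ((Module.forall_dual_apply_eq_zero_iff (B ⧸ q) n).1 hc)
  let ω : Ω[B⁄A] →ₗ[B] B ⧸ q := (v.restrictScalars B).comp (Submodule.mkQ _)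
  let D : Derivation A B (B ⧸ q) := ω.compDer (KaehlerDifferential.D A B)
  let g₀ : B →ₐ[A] (B ⧸ q)[ε] := (TrivSqZeroExt.inlAlgHom A (B ⧸ q) (B ⧸ q)).comp (Ideal.Quotient.mkₐ A q)
  let g₁ : B →ₐ[A] (B ⧸ q)[ε] :=
    { toFun := fun b => inl (Ideal.Quotient.mk q b) + inr (D b)
      map_one' := by simp
      map_mul' := fun x y => by
        ext
        · simp
        · simp [← Ideal.Quotient.algebraMap_eq, algebra_compatible_smul (B ⧸ q), mul_comm, add_comm]
      map_zero' := by simp
      map_add' := fun x y => by ext <;> simp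
      commutes' := fun a => by
        ext
        · simp [TrivSqZeroExt.algebraMap_eq_inl']
        · simp [TrivSqZeroExt.algebraMap_eq_inl'] }
  have hg : g₀ = g₁ := h (B ⧸ q)[ε] (B ⧸ q) (fstHom (B ⧸ q) (B ⧸ q) (B ⧸ q)).toRingHom (fun x => ⟨inl x, rfl⟩)
    (isSimpleModule_ker_fst _) g₀ g₁ (RingHom.ext fun b => by simp [g₀, g₁])
  have hD : ∀ b, D b = 0 := fun b => by
    have := congrArg (fun g : B →ₐ[A] (B ⧸ q)[ε] => (g b).snd) hg
    simpa [g₀, g₁] using this.symm
  have hω : ω = 0 := LinearMap.ext_on (KaehlerDifferential.span_range_derivation A B) (by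
    rintro _ ⟨b, rfl⟩; exact hD b)
  obtain ⟨m, rfl⟩ := Submodule.mkQ_surjective _ n
  exact hv (LinearMap.congr_fun hω m)

/-- A morphism locally of finite type with unique lifts along small extensions is formally unramified. -/
theorem formallyUnramified_of_small_hom {X Y : Scheme.{u}} (f : X ⟶ Y) [LocallyOfFiniteType f]
    (h : ∀ (R R₀ : Type u) [CommRing R] [IsArtinianRing R] [IsLocalRing R] [CommRing R₀] [IsLocalRing R₀]
      (φ : R →+* R₀), Function.Surjective φ → IsSimpleModule R (RingHom.ker φ) →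
      ∀ g g' : Spec (CommRingCat.of R) ⟶ X,
        Spec.map (CommRingCat.ofHom φ) ≫ g = Spec.map (CommRingCat.ofHom φ) ≫ g' → g ≫ f = g' ≫ f → g = g') :
    FormallyUnramified f := by
  refine ⟨fun {U hU V hV e} => ?_⟩
  letI := (f.appLE U V e).hom.toAlgebra
  haveI : Algebra.FiniteType Γ(Y, U) Γ(X, V) :=
    HasRingHomProperty.appLE (P := @LocallyOfFiniteType) f ‹_› ⟨U, hU⟩ ⟨V, hV⟩ e
  change Algebra.FormallyUnramified Γ(Y, U) Γ(X, V)
  refine formallyUnramified_of_small fun R R₀ _ _ _ _ _ _ φ hφ hs g g' hgg => ?_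
  have hg : ∀ g : Γ(X, V) →ₐ[Γ(Y, U)] R, f.appLE U V e ≫ CommRingCat.ofHom g.toRingHom =
      CommRingCat.ofHom (algebraMap Γ(Y, U) R) := fun g => CommRingCat.hom_ext g.comp_algebraMap
  have key := h R R₀ φ hφ hs (Spec.map (CommRingCat.ofHom g.toRingHom) ≫ hV.fromSpec)
    (Spec.map (CommRingCat.ofHom g'.toRingHom) ≫ hV.fromSpec)
    (by rw [← Category.assoc, ← Category.assoc, ← Spec.map_comp, ← Spec.map_comp, ← CommRingCat.ofHom_comp,
      ← CommRingCat.ofHom_comp, hgg])
    (by simp only [Category.assoc, ← hU.SpecMap_appLE_fromSpec f hV e, ← Spec.map_comp_assoc, hg])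
  exact AlgHom.coe_ringHom_injective (congrArg CommRingCat.Hom.hom (Spec.map_injective ((cancel_mono hV.fromSpec).1 key)))

end DMInfLib
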